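import Cfsg.Agent.H390.RR.Seven
import Cfsg.Agent.H390.RC.ExcAll
import Cfsg.Agent.H384.RR.Classical
import Cfsg.Agent.H660.RR.Defs

/-!
# S3509, the row of the alternating groups (helper390)
-/

set_option autoImplicit false

namespace Cfsg.Agent.H390.RR

open Equiv Equiv.Perm MulAction Subgroup Cfsg.Agent.H390.RC Cfsg.Agent.H660.RR

theorem map_swap {n : ℕ} {s : Finset (Fin n)} {a b : Fin n} (h : a ∈ s ↔ b ∈ s) :
    s.map (swap a b).toEmbedding = s := by
  apply Finset.eq_of_subset_of_card_le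
  · intro y hy
    rw [Finset.mem_map] at hy
    obtain ⟨x, hx, rfl⟩ := hy
    rw [Equiv.coe_toEmbedding]
    by_cases h1 : x = a
    · rw [h1, swap_apply_left]
      rw [h1] at hx
      exact h.1 hx
    · by_cases h2 : x = b
      · rw [h2, swap_apply_right]
        rw [h2] at hx
        exact h.2 hx
      · rwa [swap_apply_of_ne_of_ne h1 h2]
  · rw [Finset.card_map]

theorem map_mul' {n : ℕ} (s : Finset (Fin n)) (a b : Perm (Fin n)) :
    s.map (a * b).toEmbedding = (s.map b.toEmbedding).map a.toEmbedding := by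
  rw [Finset.map_map]
  rfl

/-- the alternating group is transitive on the `k`-subsets -/
theorem exists_even_map {n : ℕ} (hn : 3 ≤ n) {s t : Finset (Fin n)} (h : s.card = t.card) :
    ∃ σ : Perm (Fin n), sign σ = 1 ∧ s.map σ.toEmbedding = t := by
  classical
  obtain ⟨σ, hσ⟩ : ∃ σ : Perm (Fin n), s.map σ.toEmbedding = t := Equiv.Perm.exists_map_finset_eq s t h
  rcases Int.units_eq_one_or (sign σ) with hs | hs
  · exact ⟨σ, hs, hσ⟩
  obtain ⟨a, b, hab, hst⟩ : ∃ a b : Fin n, a ≠ b ∧ (a ∈ s ↔ b ∈ s) := by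
    rcases lt_or_ge 1 s.card with h1 | h1
    · obtain ⟨a, ha, b, hb, hab⟩ := Finset.one_lt_card.1 h1
      exact ⟨a, b, hab, iff_of_true ha hb⟩
    · have h2 : 1 < sᶜ.card := by
        rw [Finset.card_compl, Fintype.card_fin]
        omega
      obtain ⟨a, ha, b, hb, hab⟩ := Finset.one_lt_card.1 h2
      exact ⟨a, b, hab, iff_of_false (Finset.mem_compl.1 ha) (Finset.mem_compl.1 hb)⟩
  refine ⟨σ * swap a b, by rw [map_mul, hs, sign_swap hab]; rfl, ?_⟩
  rw [map_mul', map_swap hst, hσ]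

/-- the intransitive case -/
theorem kset_of_intrans {G Ω : Type*} [Group G] [Finite G] [MulAction G Ω] [FaithfulSMul G Ω]
    (hp : IsPreprimitive G Ω) (hnt : Nontrivial Ω) (T : Subgroup G) {n : ℕ} (hn : 5 ≤ n) (ψ : G →* Perm (Fin n))
    (e : T ≃* alternatingGroup (Fin n)) (hψ : ∀ k : T, ψ k = (e k : Perm (Fin n))) (ω0 : Ω)
    (hL : ¬ IsPretransitive ((stabilizer G ω0).map ψ) (Fin n)) : KSet (Ω := Ω) T := by
  classical
  obtain ⟨p, q, hpq⟩ : ∃ p q : Fin n, ∀ x : G, x • ω0 = ω0 → ψ x p ≠ q := by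
    by_contra hc
    push Not at hc
    apply hL
    refine ⟨fun p q => ?_⟩
    obtain ⟨x, hx, h⟩ := hc p q
    exact ⟨⟨ψ x, x, hx, rfl⟩, h⟩
  set Δ : Finset (Fin n) := Finset.univ.filter (fun z => ∃ x : G, x • ω0 = ω0 ∧ ψ x p = z) with hΔ
  have hpΔ : p ∈ Δ := by
    rw [hΔ, Finset.mem_filter]
    exact ⟨Finset.mem_univ _, 1, one_smul _ _, by rw [map_one]; rfl⟩
  have hqΔ : q ∉ Δ := by
    rw [hΔ, Finset.mem_filter]
    rintro ⟨-, x, hx, h⟩
    exact hpq x hx h
  -- the stabiliser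
  let S : Subgroup G :=
    { carrier := {x | Δ.map (ψ x).toEmbedding = Δ}
      one_mem' := by
        change Δ.map (ψ 1).toEmbedding = Δ
        rw [map_one]
        exact Finset.map_refl
      mul_mem' := by
        intro a b ha hb
        change Δ.map (ψ a).toEmbedding = Δ at ha
        change Δ.map (ψ b).toEmbedding = Δ at hb
        change Δ.map (ψ (a * b)).toEmbedding = Δ
        rw [map_mul, map_mul', hb, ha]
      inv_mem' := by
        intro a ha
        change Δ.map (ψ a).toEmbedding = Δ at ha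
        change Δ.map (ψ a⁻¹).toEmbedding = Δ
        conv_lhs => rw [← ha]
        rw [← map_mul', ← map_mul, inv_mul_cancel, map_one]
        exact Finset.map_refl }
  have hSmem : ∀ x, x ∈ S ↔ Δ.map (ψ x).toEmbedding = Δ := fun x => Iff.rfl
  have hle : stabilizer G ω0 ≤ S := by
    intro x hx
    have hx' : x • ω0 = ω0 := hx
    rw [hSmem]
    apply Finset.eq_of_subset_of_card_le
    · intro z hz
      rw [Finset.mem_map] at hz
      obtain ⟨w, hw, rfl⟩ := hz
      rw [hΔ, Finset.mem_filter] at hw ⊢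
      obtain ⟨-, y, hy, rfl⟩ := hw
      refine ⟨Finset.mem_univ _, x * y, by rw [mul_smul, hy, hx'], ?_⟩
      rw [map_mul]
      rfl
    · rw [Finset.card_map]
  have hco : IsCoatom (stabilizer G ω0) := IsPreprimitive.isCoatom_stabilizer_of_isPreprimitive G ω0
  have hSne : S ≠ ⊤ := by
    intro hS
    have h1 : ({p} : Finset (Fin n)).card = ({q} : Finset (Fin n)).card := by simp
    obtain ⟨σ, hσ, hσpq⟩ := exists_even_map (by omega) h1
    rw [Finset.map_singleton, Finset.singleton_inj, Equiv.coe_toEmbedding] at hσpq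
    have h2 : ψ (e.symm ⟨σ, mem_alternatingGroup.2 hσ⟩ : T) = σ := by
      rw [hψ, e.apply_symm_apply]
    have h3 : ((e.symm ⟨σ, mem_alternatingGroup.2 hσ⟩ : T) : G) ∈ S := by
      rw [hS]
      trivial
    rw [hSmem, h2] at h3
    apply hqΔ
    rw [← h3, Finset.mem_map]
    exact ⟨p, hpΔ, hσpq⟩
  have hSeq : stabilizer G ω0 = S := by
    by_contra hne
    exact hSne (hco.2 S (lt_of_le_of_ne hle hne))
  have hkey : ∀ x y : G, Δ.map (ψ x).toEmbedding = Δ.map (ψ y).toEmbedding ↔ x • ω0 = y • ω0 := by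
    intro x y
    have h1 : y⁻¹ * x ∈ stabilizer G ω0 ↔ x • ω0 = y • ω0 := by
      rw [mem_stabilizer_iff, mul_smul, inv_smul_eq_iff]
    rw [← h1, hSeq, hSmem, map_mul, map_mul']
    constructor
    · intro h
      rw [h, ← map_mul', ← map_mul, inv_mul_cancel, map_one]
      exact Finset.map_refl
    · intro h
      rw [← congrArg (fun s => Finset.map (ψ y).toEmbedding s) h]
      rw [← map_mul', ← map_mul, mul_inv_cancel, map_one]
      exact (Finset.map_refl (s := Δ.map (ψ x).toEmbedding)).symm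
  -- the bijection
  have htr := fun w : Ω => exists_smul_eq G ω0 w
  choose c hc using htr
  set k := Δ.card with hk
  let f : Ω → {s : Finset (Fin n) // s.card = k} := fun w => ⟨Δ.map (ψ (c w)).toEmbedding, by rw [Finset.card_map]⟩
  have hf : ∀ x : G, (f (x • ω0)).1 = Δ.map (ψ x).toEmbedding := by
    intro x
    change Δ.map (ψ (c (x • ω0))).toEmbedding = _
    rw [hkey, hc]
  have hbij : Function.Bijective f := by
    constructor
    · intro w v hwv
      have h1 := congrArg Subtype.val hwv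
      change Δ.map (ψ (c w)).toEmbedding = Δ.map (ψ (c v)).toEmbedding at h1
      rw [hkey, hc, hc] at h1
      exact h1
    · intro s
      obtain ⟨σ, hσ, hσs⟩ := exists_even_map (by omega) (s := Δ) (t := s.1) (by rw [s.2])
      refine ⟨((e.symm ⟨σ, mem_alternatingGroup.2 hσ⟩ : T) : G) • ω0, ?_⟩
      apply Subtype.ext
      rw [hf, hψ, e.apply_symm_apply]
      exact hσs
  have hequiv : ∀ (x : G) (w : Ω), (f (x • w)).1 = (f w).1.map (ψ x).toEmbedding := by
    intro x w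
    have h1 : (f w).1 = Δ.map (ψ (c w)).toEmbedding := rfl
    rw [h1, ← map_mul', ← map_mul, ← hf, mul_smul, hc]
  refine ⟨n, k, hn, Finset.card_pos.2 ⟨p, hpΔ⟩, Equiv.ofBijective f hbij, fun x => ⟨ψ x, hequiv x⟩, ?_⟩
  intro τ hτ
  refine ⟨((e.symm ⟨τ, hτ⟩ : T) : G), (e.symm ⟨τ, hτ⟩).2, fun w => ?_⟩
  change (f (_ • w)).1 = (f w).1.map _
  rw [hequiv, hψ, e.apply_symm_apply]

/-- a subgroup with a regular conjugate gives a regular point -/
theorem reg_of_regA {G Ω : Type*} [Group G] [MulAction G Ω] [FaithfulSMul G Ω]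
    (T : Subgroup G) {n : ℕ} (ψ : G →* Perm (Fin n)) (hinj : Function.Injective ψ)
    (e : T ≃* alternatingGroup (Fin n)) (hψ : ∀ k : T, ψ k = (e k : Perm (Fin n))) (ω0 : Ω) (g : G)
    (h : ∃ s ∈ alternatingGroup (Fin n), ∀ z ∈ zpowers (ψ g), s * z * s⁻¹ ∈ (stabilizer G ω0).map ψ → z = 1) :
    ∃ ω : Ω, stabilizer (zpowers g) ω = ⊥ := by
  obtain ⟨s, hs, h⟩ := h
  have h2 : ψ (e.symm ⟨s, hs⟩ : T) = s := by
    rw [hψ, e.apply_symm_apply]
  rw [reg_iff]
  refine ⟨((e.symm ⟨s, hs⟩ : T) : G)⁻¹ • ω0, fun k hk => ?_⟩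
  apply hinj
  rw [map_one]
  apply h
  · rw [map_zpow]
    exact ⟨k, rfl⟩
  · rw [← h2, ← map_inv, ← map_mul, ← map_mul]
    refine ⟨_, ?_, rfl⟩
    change _ • ω0 = ω0
    rw [mul_smul, mul_smul, hk, smul_inv_smul]

/-- no point stabiliser contains `T` -/
theorem not_le {G Ω : Type*} [Group G] [MulAction G Ω] [FaithfulSMul G Ω] (hp : IsPretransitive G Ω)
    (T : Subgroup G) [T.Normal] (hT : Nontrivial T) {n : ℕ} (ψ : G →* Perm (Fin n)) (hinj : Function.Injective ψ)
    (e : T ≃* alternatingGroup (Fin n)) (hψ : ∀ k : T, ψ k = (e k : Perm (Fin n))) (ω0 : Ω) :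
    ¬ alternatingGroup (Fin n) ≤ (stabilizer G ω0).map ψ := by
  intro hle
  have h1 : ∀ t : T, (t : G) • ω0 = ω0 := by
    intro t
    obtain ⟨y, hy, hyt⟩ := hle (e t).2
    rw [← hψ] at hyt
    rw [← hinj hyt]
    exact hy
  obtain ⟨t0, ht0⟩ := exists_ne (1 : T)
  apply ht0
  apply Subtype.ext
  apply eq_of_smul_eq_smul (α := Ω)
  intro w
  obtain ⟨x, rfl⟩ := exists_smul_eq G ω0 w
  have h2 := h1 ⟨x⁻¹ * t0 * x⁻¹⁻¹, Subgroup.Normal.conj_mem inferInstance _ t0.2 x⁻¹⟩
  change (x⁻¹ * (t0 : G) * x⁻¹⁻¹) • ω0 = ω0 at h2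
  rw [inv_inv, mul_smul, mul_smul, inv_smul_eq_iff] at h2
  rw [h2, OneMemClass.coe_one, one_smul]

/-- the covering of the conjugates of `L` -/
theorem covG_of {G Ω : Type*} [Group G] [Finite G] [MulAction G Ω] [FaithfulSMul G Ω]
    (T : Subgroup G) {n : ℕ} (ψ : G →* Perm (Fin n)) (hinj : Function.Injective ψ)
    (e : T ≃* alternatingGroup (Fin n)) (hψ : ∀ k : T, ψ k = (e k : Perm (Fin n))) (ω0 : Ω) (g : G)
    (hg : ∀ ω : Ω, stabilizer (zpowers g) ω ≠ ⊥) : CovG ((stabilizer G ω0).map ψ) (ψ g) := by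
  have ho : orderOf (ψ g) = orderOf g := orderOf_injective ψ hinj g
  intro a ha
  set k : T := e.symm ⟨a, mem_alternatingGroup.2 ha⟩ with hk
  have hka : ψ k = a := by
    rw [hψ, hk, e.apply_symm_apply]
  obtain ⟨r, hr, hd, hω⟩ := exists_prime_pow (hg ((k : G)⁻¹ • ω0))
  refine ⟨r, hr, by rwa [ho], (k : G) * g ^ (orderOf g / r) * (k : G)⁻¹, ?_, ?_⟩
  · change ((k : G) * g ^ (orderOf g / r) * (k : G)⁻¹) • ω0 = ω0
    rw [mul_smul, mul_smul, hω, smul_inv_smul]
  · rw [map_mul, map_mul, map_inv, map_pow, hka, ho]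

/-- **the row of the alternating groups** -/
theorem as_alt
    (hprim : ∀ n : ℕ, 9 ≤ n → ∀ L : Subgroup (Perm (Fin n)), IsPreprimitive L (Fin n) →
      ¬ alternatingGroup (Fin n) ≤ L → ∀ g : Perm (Fin n), ∃ s ∈ alternatingGroup (Fin n),
        ∀ z ∈ zpowers g, s * z * s⁻¹ ∈ L → z = 1)
    (himp : ∀ n : ℕ, 9 ≤ n → ∀ L : Subgroup (Perm (Fin n)), IsPretransitive L (Fin n) →
      ¬ IsPreprimitive L (Fin n) → ∀ g : Perm (Fin n), ∃ s ∈ alternatingGroup (Fin n),
        ∀ z ∈ zpowers g, s * z * s⁻¹ ∈ L → z = 1) :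
    ASRow (fun T _ => ∃ n, 5 ≤ n ∧ Nonempty (T ≃* alternatingGroup (Fin n))) := by
  intro G Ω _ _ _ _ _ hp T _ hT _ hC hP g
  obtain ⟨n, hn, ⟨e⟩⟩ := hP
  have := Fintype.ofFinite Ω
  by_cases hg : ∃ ω : Ω, stabilizer (zpowers g) ω = ⊥
  · exact Or.inl hg
  have hg' : ∀ ω : Ω, stabilizer (zpowers g) ω ≠ ⊥ := fun ω h => hg ⟨ω, h⟩
  by_cases h5 : n = 5
  · subst h5
    exact Or.inr (Cfsg.Agent.H384.RR.kset_of_alt T le_rfl e (exc_five T e hC hp g hg'))
  by_cases h6 : n = 6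
  · subst h6
    exact Or.inr (Cfsg.Agent.H384.RR.kset_of_alt T (by norm_num) e (exc_six T e hC hp g hg'))
  by_cases h8 : n = 8
  · subst h8
    exact Or.inr (Cfsg.Agent.H384.RR.kset_of_alt T (by norm_num) e (exc_eight T e hC hp g hg'))
  have hTn : Nontrivial T := hT.toNontrivial
  have hnt : Nontrivial Ω := by
    by_contra hc
    rw [not_nontrivial_iff_subsingleton] at hc
    obtain ⟨t0, ht0⟩ := exists_ne (1 : T)
    apply ht0
    apply Subtype.ext
    apply eq_of_smul_eq_smul (α := Ω)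
    intro w
    exact Subsingleton.elim _ _
  obtain ⟨ω0⟩ := hnt.to_nonempty
  obtain ⟨ψ, hinj, hψ⟩ := exists_psi T hC (by omega) h6 e
  by_cases hL : IsPretransitive ((stabilizer G ω0).map ψ) (Fin n)
  swap
  · exact Or.inr (kset_of_intrans hp hnt T hn ψ e hψ ω0 hL)
  exfalso
  have hA := not_le inferInstance T hTn ψ hinj e hψ ω0
  by_cases h7 : n = 7
  · subst h7
    obtain ⟨r₁, r₂, hr₁, hr₂, hlt, hd₁, hd₂⟩ := exists_two_primes g hg'
    have ho : orderOf (ψ g) = orderOf g := orderOf_injective ψ hinj g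
    have hprim7 : IsPreprimitive ((stabilizer G ω0).map ψ) (Fin 7) := by
      apply IsPreprimitive.of_prime_card
      rw [Nat.card_eq_fintype_card, Fintype.card_fin]
      norm_num
    exact kill_seven (NoSC.of_prim hprim7 hA) (covG_of T ψ hinj e hψ ω0 g hg') hr₁ hr₂ hlt (by rwa [ho]) (by rwa [ho])
  · by_cases hpr : IsPreprimitive ((stabilizer G ω0).map ψ) (Fin n)
    · exact hg (reg_of_regA T ψ hinj e hψ ω0 g (hprim n (by omega) _ hpr hA (ψ g)))
    · exact hg (reg_of_regA T ψ hinj e hψ ω0 g (himp n (by omega) _ hL hpr (ψ g)))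

end Cfsg.Agent.H390.RR
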