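import Cfsg.Agent.H660.RR.Dec
import Cfsg.Agent.H893.Fac

/-!
# S3509: coordinates for blocks (helper390)

`exists_dec` : a Cartesian decomposition of `Ω` from a partition of the factors of `N` (the classes of `c`).
-/

set_option autoImplicit false

namespace Cfsg.Agent.H390.RR

open Subgroup MulAction

universe u v

section Coord

variable {G : Type u} {Ω : Type v} [Group G] [MulAction G Ω] {N : Subgroup G} {m : ℕ}
  {T : Fin m → Subgroup G}

/-- `(i, w)` and `(i, n w)` are equivalent, if the coordinates of `n ∈ N` in the class of `i` are trivial. -/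
def bSetoid (e : N ≃* (∀ i, T i)) (c : Fin m → Fin m) (Ω : Type v) [MulAction G Ω] : Setoid (Fin m × Ω) where
  r p q := c p.1 = c q.1 ∧ ∃ n : N, (∀ l, c l = c p.1 → e n l = 1) ∧ q.2 = (n : G) • p.2
  iseqv :=
    { refl := fun p => ⟨rfl, 1, fun l _ => by rw [map_one]; rfl, by simp⟩
      symm := by
        rintro ⟨i, w⟩ ⟨j, v⟩ ⟨hij, n, hn, hv⟩
        change c i = c j at hij
        change v = (n : G) • w at hv
        refine ⟨hij.symm, n⁻¹, fun l hl => ?_, ?_⟩
        · have hn' : e n l = 1 := hn l (hl.trans hij.symm)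
          rw [map_inv, Pi.inv_apply, hn', inv_one]
        · change w = ((n⁻¹ : N) : G) • v
          rw [hv, InvMemClass.coe_inv, inv_smul_smul]
      trans := by
        rintro ⟨i, w⟩ ⟨j, v⟩ ⟨l, u⟩ ⟨hij, n, hn, hv⟩ ⟨hjl, n', hn', hu⟩
        change c i = c j at hij
        change c j = c l at hjl
        change v = (n : G) • w at hv
        change u = (n' : G) • v at hu
        refine ⟨hij.trans hjl, n' * n, fun k hk => ?_, ?_⟩
        · have h1 : e n k = 1 := hn k hk
          have h2 : e n' k = 1 := hn' k (hk.trans hij)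
          rw [map_mul, Pi.mul_apply, h1, h2, one_mul]
        · change u = ((n' * n : N) : G) • w
          rw [hu, hv, Subgroup.coe_mul, mul_smul] }

/-- the disjoint union of the coordinate sets -/
def BPt (e : N ≃* (∀ i, T i)) (c : Fin m → Fin m) (Ω : Type v) [MulAction G Ω] : Type v := Quotient (bSetoid e c Ω)

variable {e : N ≃* (∀ i, T i)} {c : Fin m → Fin m}

/-- the coordinate of a point -/
def bpt (e : N ≃* (∀ i, T i)) (c : Fin m → Fin m) (i : Fin m) (w : Ω) : BPt e c Ω :=
  Quotient.mk (bSetoid e c Ω) (i, w)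

theorem bpt_eq {i j : Fin m} {w v : Ω} :
    bpt e c i w = bpt e c j v ↔ c i = c j ∧ ∃ n : N, (∀ l, c l = c i → e n l = 1) ∧ v = (n : G) • w := by
  constructor
  · intro h
    exact Quotient.exact h
  · intro h
    exact Quotient.sound h

theorem bpt_congr {i j : Fin m} (h : c i = c j) (w : Ω) : bpt e c i w = bpt e c j w := by
  rw [bpt_eq]
  exact ⟨h, 1, fun l _ => by rw [map_one]; rfl, by simp⟩

/-- the index set -/
def BI (c : Fin m → Fin m) : Type := {j : Fin m // c j = j}

/-- the class of an index -/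
def bj (hcc : ∀ i, c (c i) = c i) (i : Fin m) : BI c := ⟨c i, hcc i⟩

/-- the projection -/
def bprj (hcc : ∀ i, c (c i) = c i) (x : BPt e c Ω) : BI c :=
  Quotient.lift (s := bSetoid e c Ω) (fun p : Fin m × Ω => bj hcc p.1) (fun _ _ h => Subtype.ext h.1) x

theorem exists_bpt (x : BPt e c Ω) : ∃ (i : Fin m) (w : Ω), x = bpt e c i w := by
  induction x using Quotient.inductionOn with
  | h p => exact ⟨p.1, p.2, rfl⟩

instance instFiniteBPt [Finite Ω] : Finite (BPt e c Ω) := by
  unfold BPt
  infer_instance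

instance instFiniteBI : Finite (BI c) := by
  unfold BI
  infer_instance

/-- the action on the index set -/
@[reducible] noncomputable def actBI (f : G →* Equiv.Perm (Fin m)) (hcc : ∀ i, c (c i) = c i)
    (hcG : ∀ (x : G) i j, c i = c j → c (f x i) = c (f x j)) : MulAction G (BI c) where
  smul x j := bj hcc (f x j.1)
  one_smul j := by
    apply Subtype.ext
    change c (f 1 j.1) = j.1
    rw [map_one]
    exact j.2
  mul_smul x y j := by
    apply Subtype.ext
    change c (f (x * y) j.1) = c (f x (c (f y j.1)))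
    rw [map_mul]
    exact hcG x _ _ (hcc _).symm

variable [N.Normal]

/-- `g • (i, w) = (g i, g w)`. -/
noncomputable def smulBPt (hf : H893.Fac N m T e)
    (hcG : ∀ (x : G) i j, c i = c j → c (hf.perm x i) = c (hf.perm x j)) (g : G) (x : BPt e c Ω) : BPt e c Ω :=
  Quotient.lift (s := bSetoid e c Ω) (fun p : Fin m × Ω => bpt e c (hf.perm g p.1) (g • p.2)) (by
    rintro ⟨i, w⟩ ⟨j, v⟩ ⟨hij, n, hn, hv⟩
    change c i = c j at hij
    change v = (n : G) • w at hv
    change bpt e c (hf.perm g i) (g • w) = bpt e c (hf.perm g j) (g • v)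
    rw [bpt_eq]
    refine ⟨hcG g _ _ hij, H893.Fac.cj N g n, fun l hl => ?_, ?_⟩
    · have h1 : hf.perm g (hf.perm g⁻¹ l) = l := by
        rw [← Equiv.Perm.mul_apply, ← map_mul, mul_inv_cancel, map_one]
        rfl
      have h2 : c (hf.perm g⁻¹ l) = c i := by
        rw [hcG g⁻¹ _ _ hl, ← Equiv.Perm.mul_apply, ← map_mul, inv_mul_cancel, map_one]
        rfl
      have h3 := hf.perm_spec g (hf.perm g⁻¹ l)
      rw [h1] at h3
      rw [hf.cj_eq_one g (hf.perm g⁻¹ l) l h3]
      exact hn _ h2
    · change g • v = (g * (n : G) * g⁻¹) • g • w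
      rw [hv, smul_smul, smul_smul]
      congr 1
      group) x

theorem smulBPt_bpt (hf : H893.Fac N m T e)
    (hcG : ∀ (x : G) i j, c i = c j → c (hf.perm x i) = c (hf.perm x j)) (g : G) (i : Fin m) (w : Ω) :
    smulBPt hf hcG g (bpt e c i w) = bpt e c (hf.perm g i) (g • w) := rfl

/-- the action on the coordinate sets -/
@[reducible] noncomputable def actBPt (hf : H893.Fac N m T e)
    (hcG : ∀ (x : G) i j, c i = c j → c (hf.perm x i) = c (hf.perm x j)) : MulAction G (BPt e c Ω) where
  smul := smulBPt hf hcG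
  one_smul x := by
    obtain ⟨i, w, rfl⟩ := exists_bpt x
    change smulBPt hf hcG 1 (bpt e c i w) = bpt e c i w
    rw [smulBPt_bpt, map_one, one_smul]
    rfl
  mul_smul a b x := by
    obtain ⟨i, w, rfl⟩ := exists_bpt x
    change smulBPt hf hcG (a * b) (bpt e c i w) = smulBPt hf hcG a (smulBPt hf hcG b (bpt e c i w))
    rw [smulBPt_bpt, smulBPt_bpt, smulBPt_bpt, map_mul, mul_smul]
    rfl

end Coord

/-- **coordinates for blocks** -/
theorem exists_dec {G : Type u} {Ω : Type v} [Group G] [Finite G] [MulAction G Ω] [Finite Ω] {N : Subgroup G}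
    [N.Normal] {m : ℕ} {T : Fin m → Subgroup G} {e : N ≃* (∀ i, T i)} (hf : H893.Fac N m T e) {ω : Ω}
    (htr : ∀ w : Ω, ∃ n : N, w = (n : G) • ω) (c : Fin m → Fin m) (hcc : ∀ i, c (c i) = c i)
    (hcG : ∀ (x : G) i j, c i = c j → c (hf.perm x i) = c (hf.perm x j))
    (hprod : ∀ n : N, (n : G) • ω = ω ↔
      ∀ j, ((e.symm (fun i => if c i = j then e n i else 1) : N) : G) • ω = ω) :
    ∃ (I : Type) (X : Type v) (_ : MulAction G I) (_ : MulAction G X) (_ : Finite I) (_ : Finite X) (π : X → I)
      (ev : Ω → I → X) (jj : Fin m → I),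
      H660.RR.Dec (G := G) π ev ∧ Function.Surjective jj ∧ (∀ i j, jj i = jj j ↔ c i = c j) ∧
      (∀ (x : G) i, x • jj i = jj (hf.perm x i)) ∧
      (∀ i (w v : Ω), ev w (jj i) = ev v (jj i) ↔ ∃ n : N, (∀ l, c l = c i → e n l = 1) ∧ v = (n : G) • w) := by
  refine ⟨BI c, BPt e c Ω, actBI hf.perm hcc hcG, actBPt hf hcG, inferInstance, inferInstance, bprj hcc,
    fun w j => bpt e c j.1 w, bj hcc, ?_, ?_, ?_, ?_, ?_⟩
  · letI := actBI hf.perm hcc hcG
    letI : MulAction G (BPt e c Ω) := actBPt hf hcG
    constructor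
    · intro g x
      obtain ⟨i, w, rfl⟩ := exists_bpt x
      apply Subtype.ext
      change c (hf.perm g i) = c (hf.perm g (c i))
      exact hcG g _ _ (hcc i).symm
    · intro w j
      apply Subtype.ext
      exact j.2
    · intro s hs
      have h1 : ∀ j : BI c, ∃ n : N, s j = bpt e c j.1 ((n : G) • ω) := by
        intro j
        obtain ⟨i, w, hw⟩ := exists_bpt (s j)
        obtain ⟨n, hn⟩ := htr w
        refine ⟨n, ?_⟩
        have h2 := congrArg Subtype.val (hs j)
        rw [hw] at h2
        change c i = j.1 at h2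
        rw [hw, hn]
        exact bpt_congr (h2.trans j.2.symm) _
      choose n hn using h1
      refine ⟨((e.symm (fun i => e (n (bj hcc i)) i) : N) : G) • ω, ?_⟩
      funext j
      change bpt e c j.1 _ = _
      rw [hn j, bpt_eq]
      refine ⟨rfl, n j * (e.symm (fun i => e (n (bj hcc i)) i))⁻¹, fun l hl => ?_, ?_⟩
      · have h2 : bj hcc l = j := Subtype.ext (hl.trans j.2)
        rw [map_mul, map_inv, MulEquiv.apply_symm_apply, Pi.mul_apply, Pi.inv_apply, h2, mul_inv_cancel]
      · rw [Subgroup.coe_mul, mul_smul, InvMemClass.coe_inv, inv_smul_smul]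
    · intro w v hwv
      obtain ⟨u, hu⟩ := htr w
      obtain ⟨s, hs⟩ := htr v
      have h1 : ((s⁻¹ * u : N) : G) • ω = ω := by
        rw [hprod]
        intro j
        by_cases hj : c j = j
        · obtain ⟨-, n, hn, hv⟩ := bpt_eq.1 (congrFun hwv (⟨j, hj⟩ : BI c))
          have h2 : ((s⁻¹ * n * u : N) : G) • ω = ω := by
            change ((s : G)⁻¹ * (n : G) * (u : G)) • ω = ω
            rw [mul_smul, mul_smul, ← hu, ← hv, hs, inv_smul_smul]
          have h3 := (hprod _).1 h2 j
          have h4 : (fun i => if c i = j then e (s⁻¹ * u) i else 1) =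
              fun i => if c i = j then e (s⁻¹ * n * u) i else 1 := by
            funext i
            split_ifs with hi
            · have h5 : e n i = 1 := hn i (hi.trans hj.symm)
              rw [map_mul, map_mul, map_mul, Pi.mul_apply, Pi.mul_apply, Pi.mul_apply, h5, mul_one]
            · rfl
          rw [h4]
          exact h3
        · have h4 : (fun i => if c i = j then e (s⁻¹ * u) i else 1) = 1 := by
            funext i
            rw [if_neg]
            · rfl
            · intro hi
              apply hj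
              rw [← hi, hcc]
          rw [h4, map_one, OneMemClass.coe_one, one_smul]
      have h2 : ((s : G)⁻¹ * (u : G)) • ω = ω := h1
      rw [mul_smul, inv_smul_eq_iff, ← hu, ← hs] at h2
      exact h2
    · intro g w j
      change bpt e c (c (hf.perm g j.1)) (g • w) = bpt e c (hf.perm g j.1) (g • w)
      exact bpt_congr (hcc _) _
  · intro j
    exact ⟨j.1, Subtype.ext j.2⟩
  · intro i j
    exact ⟨fun h => congrArg Subtype.val h, fun h => Subtype.ext h⟩
  · intro x i
    apply Subtype.ext
    change c (hf.perm x (c i)) = c (hf.perm x i)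
    exact hcG x _ _ (hcc i)
  · intro i w v
    change bpt e c (c i) w = bpt e c (c i) v ↔ _
    rw [bpt_eq, hcc]
    exact ⟨fun h => h.2, fun h => ⟨rfl, h⟩⟩

end Cfsg.Agent.H390.RR
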